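import Cfsg.Agent.Lib.Helper85.Nat.Basic

set_option autoImplicit false

namespace Cfsg.Agent.Lib.Helper85.NatSL2

open Matrix

variable {F : Type*} [Field F] {V : Type*} [AddCommGroup V] [DistribMulAction (SL F) V]

/-- the scalar multiplication on `fixUp` -/
def sc (t : F) (v : V) : V := SL2.up t • (ww (-1 : F) • v) - ww (-1 : F) • v

theorem sc_mem (hq : Quad F V) (t : F) (v : V) : sc t v ∈ fixUp F V := fun x => hq x t _

theorem sc_add_left (hq : Quad F V) (t s : F) (v : V) : sc (t + s) v = sc t v + sc s v := by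
  unfold sc
  rw [← SL2.up_add, mul_smul]
  have h := hq t s (ww (-1 : F) • v)
  rw [smul_sub] at h
  have : SL2.up t • SL2.up s • ww (-1 : F) • v
      = SL2.up s • ww (-1 : F) • v - ww (-1 : F) • v + SL2.up t • ww (-1 : F) • v := by
    rw [← h]; abel
  rw [this]; abel

theorem sc_add_right (t : F) (v v' : V) : sc t (v + v') = sc t v + sc t v' := by
  unfold sc
  simp only [smul_add]; abel

theorem sc_zero_left (v : V) : sc (0 : F) v = 0 := by
  unfold sc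
  rw [SL2.up_zero, one_smul, sub_self]

theorem sc_zero_right (t : F) : sc t (0 : V) = 0 := by
  unfold sc
  simp

theorem neg_one_ne : (-1 : F) ≠ 0 := neg_ne_zero.2 one_ne_zero

theorem sc_eq_hh
    (hLo : ∀ {t : F}, t ≠ 0 → ∀ {v : V}, v ∈ fixLo F V → ww t • v = SL2.up t • v - v)
    {t : F} (ht : t ≠ 0) {v : V} (hv : v ∈ fixUp F V) : sc t v = hh t • v := by
  unfold sc
  rw [← hLo ht (ww_smul_fixUp neg_one_ne hv), hh_def, mul_smul]

theorem sc_one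
    (hLo : ∀ {t : F}, t ≠ 0 → ∀ {v : V}, v ∈ fixLo F V → ww t • v = SL2.up t • v - v)
    {v : V} (hv : v ∈ fixUp F V) : sc (1 : F) v = v := by
  rw [sc_eq_hh hLo one_ne_zero hv, hh_one, one_smul]

theorem sc_mul (hq : Quad F V)
    (hLo : ∀ {t : F}, t ≠ 0 → ∀ {v : V}, v ∈ fixLo F V → ww t • v = SL2.up t • v - v)
    (t s : F) {v : V} (hv : v ∈ fixUp F V) : sc (t * s) v = sc t (sc s v) := by
  by_cases ht : t = 0
  · rw [ht, zero_mul, sc_zero_left, sc_zero_left]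
  by_cases hs : s = 0
  · rw [hs, mul_zero, sc_zero_left, sc_zero_right]
  rw [sc_eq_hh hLo (mul_ne_zero ht hs) hv, sc_eq_hh hLo ht (sc_mem hq s v), sc_eq_hh hLo hs hv,
    ← hh_mul ht hs, mul_smul]

theorem sc_eq_zero
    (hLo : ∀ {t : F}, t ≠ 0 → ∀ {v : V}, v ∈ fixLo F V → ww t • v = SL2.up t • v - v)
    {t : F} {v : V} (hv : v ∈ fixUp F V) (hv0 : v ≠ 0) (h : sc t v = 0) : t = 0 := by
  by_contra ht
  rw [sc_eq_hh hLo ht hv] at h
  apply hv0
  have := congrArg (fun u => (hh t)⁻¹ • u) h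
  simpa using this

theorem ww_neg_inv {y : F} (hy : y ≠ 0) : ww (-y⁻¹) = ww (-1) * hh y := by
  have h1 := (SL2.stdSt2 F).w_mul_w_neg 1 y⁻¹
  have h2 : ww (1 : F) * ww (-y⁻¹) = hh 1 * (hh y⁻¹)⁻¹ := h1
  have h3 : hh y * hh y⁻¹ = 1 := by
    rw [hh_mul hy (inv_ne_zero hy), mul_inv_cancel₀ hy, hh_one]
  have h4 : (hh y⁻¹)⁻¹ = hh y := by
    rw [inv_eq_iff_mul_eq_one]
    have := hh_mul (inv_ne_zero hy) hy
    rw [inv_mul_cancel₀ hy, hh_one] at this
    exact this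
  rw [hh_one, one_mul, h4] at h2
  have h5 : ww (-1 : F) = (ww 1)⁻¹ := ww_neg 1
  rw [h5, ← h2]; group

theorem lo_smul
    (hLo : ∀ {t : F}, t ≠ 0 → ∀ {v : V}, v ∈ fixLo F V → ww t • v = SL2.up t • v - v)
    (hUp : ∀ {t : F}, t ≠ 0 → ∀ {v : V}, v ∈ fixUp F V → ww t • v = SL2.lo (-t⁻¹) • v - v)
    (y : F) {v : V} (hv : v ∈ fixUp F V) : SL2.lo y • v = v + ww (-1 : F) • sc y v := by
  by_cases hy : y = 0
  · rw [hy, SL2.lo_zero, one_smul, sc_zero_left, smul_zero, add_zero]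
  have h1 := hUp (neg_ne_zero.2 (inv_ne_zero hy)) hv
  have e : -(-y⁻¹)⁻¹ = y := by rw [inv_neg, inv_inv, neg_neg]
  rw [e, ww_neg_inv hy, mul_smul, ← sc_eq_hh hLo hy hv] at h1
  rw [h1]; abel

theorem up_smul (x : F) (v : V) : SL2.up x • (ww (-1 : F) • v) = ww (-1 : F) • v + sc x v := by
  unfold sc; abel

theorem natural_of_facts (hirr : Irr F V) (hnt : NonTriv F V) (hq : Quad F V)
    (hdec : ∀ v : V, ∃ v0 ∈ fixUp F V, ∃ v1 ∈ fixLo F V, v = v0 + v1)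
    (hLo : ∀ {t : F}, t ≠ 0 → ∀ {v : V}, v ∈ fixLo F V → ww t • v = SL2.up t • v - v)
    (hUp : ∀ {t : F}, t ≠ 0 → ∀ {v : V}, v ∈ fixUp F V → ww t • v = SL2.lo (-t⁻¹) • v - v) :
    ∃ ψ : V ≃+ (Fin 2 → F), ∀ (g : SL F) (v : V),
      ψ (g • v) = (g : Matrix (Fin 2) (Fin 2) F) *ᵥ ψ v := by
  -- a nonzero vector of `fixUp`
  obtain ⟨v0, hv0, hne⟩ : ∃ v0 ∈ fixUp F V, v0 ≠ 0 := by
    by_contra hcon
    push Not at hcon
    obtain ⟨g, v, hgv⟩ := hnt
    apply hgv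
    obtain ⟨a, ha, b, hb, rfl⟩ := hdec v
    have ha0 := hcon a ha
    have hb0 : b = 0 := by
      have := hcon _ (ww_smul_fixLo (one_ne_zero (α := F)) hb)
      have h2 := congrArg (fun u => (ww (1 : F))⁻¹ • u) this
      simpa using h2
    rw [ha0, hb0]; simp
  obtain ⟨Ψ, hΨ⟩ : ∃ Ψ : (Fin 2 → F) →+ V, ∀ a, Ψ a = sc (a 0) v0 + ww (-1 : F) • sc (a 1) v0 :=
    ⟨{ toFun := fun a => sc (a 0) v0 + ww (-1 : F) • sc (a 1) v0
       map_zero' := by simp [sc_zero_left]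
       map_add' := fun a b => by
        simp only [Pi.add_apply, sc_add_left hq, smul_add]; abel }, fun _ => rfl⟩
  have hup : ∀ (x : F) a, SL2.up x • Ψ a = Ψ ((SL2.up x : Matrix (Fin 2) (Fin 2) F) *ᵥ a) := by
    intro x a
    have e0 : ((SL2.up x : Matrix (Fin 2) (Fin 2) F) *ᵥ a) 0 = a 0 + x * a 1 := by
      simp [Matrix.mulVec, dotProduct, Fin.sum_univ_two]
    have e1 : ((SL2.up x : Matrix (Fin 2) (Fin 2) F) *ᵥ a) 1 = a 1 := by
      simp [Matrix.mulVec, dotProduct, Fin.sum_univ_two]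
    rw [hΨ, hΨ, e0, e1, smul_add, sc_mem hq _ _ x, up_smul, sc_add_left hq, sc_mul hq hLo _ _ hv0]
    abel
  have hlo : ∀ (y : F) a, SL2.lo y • Ψ a = Ψ ((SL2.lo y : Matrix (Fin 2) (Fin 2) F) *ᵥ a) := by
    intro y a
    have e0 : ((SL2.lo y : Matrix (Fin 2) (Fin 2) F) *ᵥ a) 0 = a 0 := by
      simp [Matrix.mulVec, dotProduct, Fin.sum_univ_two]
    have e1 : ((SL2.lo y : Matrix (Fin 2) (Fin 2) F) *ᵥ a) 1 = y * a 0 + a 1 := by
      simp [Matrix.mulVec, dotProduct, Fin.sum_univ_two]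
    rw [hΨ, hΨ, e0, e1, smul_add, ww_smul_fixUp neg_one_ne (sc_mem hq _ _) y,
      lo_smul hLo hUp y (sc_mem hq _ _), sc_add_left hq, sc_mul hq hLo _ _ hv0, smul_add]
    abel
  have hall : ∀ (g : SL F) a, g • Ψ a = Ψ ((g : Matrix (Fin 2) (Fin 2) F) *ᵥ a) := by
    intro g
    refine sl_induction (fun g => ∀ a, g • Ψ a = Ψ ((g : Matrix (Fin 2) (Fin 2) F) *ᵥ a)) hup hlo ?_ g
    intro g h hg hh a
    rw [mul_smul, hh, hg, Matrix.mulVec_mulVec]
    rfl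
  have hinj : Function.Injective Ψ := by
    rw [injective_iff_map_eq_zero]
    intro a ha
    rw [hΨ] at ha
    have h1 : sc (a 0) v0 ∈ fixLo F V := by
      have : sc (a 0) v0 = -(ww (-1 : F) • sc (a 1) v0) := eq_neg_of_add_eq_zero_left ha
      rw [this]
      exact (fixLo F V).neg_mem (ww_smul_fixUp neg_one_ne (sc_mem hq _ _))
    have h2 := eq_zero_of_fix hirr hnt (sc_mem hq _ _) h1
    rw [h2, zero_add] at ha
    have h3 : sc (a 1) v0 = 0 := by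
      have := congrArg (fun u => (ww (-1 : F))⁻¹ • u) ha
      simpa using this
    funext i
    fin_cases i
    · exact sc_eq_zero hLo hv0 hne h2
    · exact sc_eq_zero hLo hv0 hne h3
  have hsurj : Function.Surjective Ψ := by
    have hW : ∀ (g : SL F), ∀ v ∈ Ψ.range, g • v ∈ Ψ.range := by
      rintro g _ ⟨a, rfl⟩
      exact ⟨_, (hall g a).symm⟩
    rcases hirr _ hW with h | h
    · exfalso
      have : Ψ ![1, 0] ∈ Ψ.range := ⟨_, rfl⟩
      rw [h, AddSubgroup.mem_bot, hΨ] at this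
      simp only [Matrix.cons_val_zero, Matrix.cons_val_one, sc_zero_left, smul_zero, add_zero,
        sc_one hLo hv0] at this
      exact hne this
    · exact AddMonoidHom.range_eq_top.1 h
  refine ⟨(AddEquiv.ofBijective Ψ ⟨hinj, hsurj⟩).symm, ?_⟩
  intro g v
  obtain ⟨a, rfl⟩ := hsurj v
  rw [hall]
  have h1 : ∀ b, (AddEquiv.ofBijective Ψ ⟨hinj, hsurj⟩).symm (Ψ b) = b := fun b =>
    (AddEquiv.ofBijective Ψ ⟨hinj, hsurj⟩).symm_apply_apply b
  rw [h1, h1]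

end Cfsg.Agent.Lib.Helper85.NatSL2
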