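import Cfsg.Agent.Lib.Helper85.Nat.Basic
import Cfsg.Agent.Lib.Helper85.Nat.PFIX

set_option autoImplicit false

namespace Cfsg.Agent.Lib.Helper85.NatSL2

open Matrix

variable {F : Type*} [Field F] {V : Type*} [AddCommGroup V] [DistribMulAction (SL F) V]

theorem up_mul_ww {t : F} (ht : t ≠ 0) (x : F) :
    SL2.up x * ww t = ww t * SL2.lo (-(t⁻¹ ^ 2 * x)) := by
  have h1 := (SL2.stdSt2 F).conj_x' ht x
  have : (SL2.stdSt2 F).x x * ww t = ww t * ((ww t)⁻¹ * (SL2.stdSt2 F).x x * ww t) := by group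
  rw [h1] at this
  exact this

theorem lo_mul_ww {t : F} (ht : t ≠ 0) (x : F) :
    SL2.lo x * ww t = ww t * SL2.up (-(t ^ 2 * x)) := by
  have h1 := (SL2.stdSt2 F).conj_y' ht x
  have : (SL2.stdSt2 F).y x * ww t = ww t * ((ww t)⁻¹ * (SL2.stdSt2 F).y x * ww t) := by group
  rw [h1] at this
  exact this

theorem up_pow (x : F) (n : ℕ) : (SL2.up x) ^ n = SL2.up (n * x) := by
  induction n with
  | zero => simp [SL2.up_zero]
  | succ k ih => rw [pow_succ, ih, SL2.up_add]; congr 1; push_cast; ring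

variable (F V) in
/-- vectors of `fixLo` moved by the upper unitriangular group only inside `fixUp` -/
def subLo : AddSubgroup V where
  carrier := {v | v ∈ fixLo F V ∧ ∀ x : F, SL2.up x • v - v ∈ fixUp F V}
  zero_mem' := ⟨(fixLo F V).zero_mem, fun x => by simp [(fixUp F V).zero_mem]⟩
  add_mem' := fun {a b} ha hb => ⟨(fixLo F V).add_mem ha.1 hb.1, fun x => by
    have : SL2.up x • (a + b) - (a + b) = (SL2.up x • a - a) + (SL2.up x • b - b) := by
      rw [smul_add]; abel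
    rw [this]; exact (fixUp F V).add_mem (ha.2 x) (hb.2 x)⟩
  neg_mem' := fun {a} ha => ⟨(fixLo F V).neg_mem ha.1, fun x => by
    have : SL2.up x • (-a) - (-a) = -(SL2.up x • a - a) := by
      rw [smul_neg]; abel
    rw [this]; exact (fixUp F V).neg_mem (ha.2 x)⟩

variable (F V) in
/-- vectors of `fixUp` moved by the lower unitriangular group only inside `fixLo` -/
def subUp : AddSubgroup V where
  carrier := {v | v ∈ fixUp F V ∧ ∀ x : F, SL2.lo x • v - v ∈ fixLo F V}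
  zero_mem' := ⟨(fixUp F V).zero_mem, fun x => by simp [(fixLo F V).zero_mem]⟩
  add_mem' := fun {a b} ha hb => ⟨(fixUp F V).add_mem ha.1 hb.1, fun x => by
    have : SL2.lo x • (a + b) - (a + b) = (SL2.lo x • a - a) + (SL2.lo x • b - b) := by
      rw [smul_add]; abel
    rw [this]; exact (fixLo F V).add_mem (ha.2 x) (hb.2 x)⟩
  neg_mem' := fun {a} ha => ⟨(fixUp F V).neg_mem ha.1, fun x => by
    have : SL2.lo x • (-a) - (-a) = -(SL2.lo x • a - a) := by
      rw [smul_neg]; abel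
    rw [this]; exact (fixLo F V).neg_mem (ha.2 x)⟩

theorem ww_subLo {t : F} (ht : t ≠ 0) {v : V} (hv : v ∈ subLo F V) : ww t • v ∈ subUp F V := by
  refine ⟨ww_smul_fixLo ht hv.1, fun y => ?_⟩
  rw [← mul_smul, lo_mul_ww ht, mul_smul, ← smul_sub]
  exact ww_smul_fixUp ht (hv.2 _)

theorem ww_subUp {t : F} (ht : t ≠ 0) {v : V} (hv : v ∈ subUp F V) : ww t • v ∈ subLo F V := by
  refine ⟨ww_smul_fixUp ht hv.1, fun y => ?_⟩
  rw [← mul_smul, up_mul_ww ht, mul_smul, ← smul_sub]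
  exact ww_smul_fixLo ht (hv.2 _)

theorem key_subLo (hirr : Irr F V) (hnt : NonTriv F V) {x : F} (hx : x ≠ 0) {v : V}
    (hv : v ∈ subLo F V) : SL2.up x • v - v = ww x • v := by
  have hu : SL2.up x • v - v ∈ fixUp F V := hv.2 x
  have hd0 : ww x • v - (SL2.up x • v - v) ∈ fixUp F V :=
    (fixUp F V).sub_mem (ww_smul_fixLo hx hv.1) hu
  -- `lo s • u = ww x • v - v`
  have h1 : SL2.lo (-x⁻¹) • (SL2.up x • v - v) = ww x • v - v := by
    rw [ww_eq' hx, mul_smul, mul_smul, hv.1 (-x⁻¹), smul_sub, hv.1 (-x⁻¹)]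
  have h2 : ww x • (SL2.up x • v - v) = (ww x • v - (SL2.up x • v - v)) - v := by
    have e : ∀ u : V, ww x • u = SL2.up x • SL2.lo (-x⁻¹) • SL2.up x • u := fun u => by
      rw [ww_def, mul_smul, mul_smul]
    rw [e (SL2.up x • v - v), hu x, h1, smul_sub, ww_smul_fixLo hx hv.1 x]
    abel
  have hd1 : ww x • v - (SL2.up x • v - v) ∈ fixLo F V := by
    have : ww x • v - (SL2.up x • v - v) = ww x • (SL2.up x • v - v) + v := by rw [h2]; abel
    rw [this]
    exact (fixLo F V).add_mem (ww_smul_fixUp hx hu) hv.1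
  exact (sub_eq_zero.1 (eq_zero_of_fix hirr hnt hd0 hd1)).symm

theorem key_subUp (hirr : Irr F V) (hnt : NonTriv F V) {t : F} (ht : t ≠ 0) {v : V}
    (hv : v ∈ subUp F V) : SL2.lo (-t⁻¹) • v - v = ww t • v := by
  have hu : SL2.lo (-t⁻¹) • v - v ∈ fixLo F V := hv.2 _
  have hd0 : ww t • v - (SL2.lo (-t⁻¹) • v - v) ∈ fixLo F V :=
    (fixLo F V).sub_mem (ww_smul_fixUp ht hv.1) hu
  have h1 : SL2.up t • (SL2.lo (-t⁻¹) • v - v) = ww t • v - v := by
    rw [ww_def, mul_smul, mul_smul, hv.1 t, smul_sub, hv.1 t]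
  have h2 : ww t • (SL2.lo (-t⁻¹) • v - v) = (ww t • v - (SL2.lo (-t⁻¹) • v - v)) - v := by
    have e : ∀ u : V, ww t • u = SL2.lo (-t⁻¹) • SL2.up t • SL2.lo (-t⁻¹) • u := fun u => by
      rw [ww_eq' ht, mul_smul, mul_smul]
    rw [e (SL2.lo (-t⁻¹) • v - v), hu (-t⁻¹), h1, smul_sub, ww_smul_fixUp ht hv.1 (-t⁻¹)]
    abel
  have hd1 : ww t • v - (SL2.lo (-t⁻¹) • v - v) ∈ fixUp F V := by
    have : ww t • v - (SL2.lo (-t⁻¹) • v - v) = ww t • (SL2.lo (-t⁻¹) • v - v) + v := by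
      rw [h2]; abel
    rw [this]
    exact (fixUp F V).add_mem (ww_smul_fixLo ht hu) hv.1
  exact (sub_eq_zero.1 (eq_zero_of_fix hirr hnt hd1 hd0)).symm

theorem card_fixLo : Nat.card (fixLo F V) = Nat.card (fixUp F V) := by
  refine Nat.card_congr ⟨fun v => ⟨ww (1 : F) • v.1, ww_smul_fixLo one_ne_zero v.2⟩,
    fun v => ⟨ww (-1 : F) • v.1, ww_smul_fixUp (neg_ne_zero.2 one_ne_zero) v.2⟩, ?_, ?_⟩
  · intro v
    apply Subtype.ext
    show ww (-1 : F) • ww (1 : F) • v.1 = v.1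
    rw [ww_neg, inv_smul_smul]
  · intro v
    apply Subtype.ext
    show ww (1 : F) • ww (-1 : F) • v.1 = v.1
    rw [ww_neg, smul_inv_smul]

theorem quad_of_card [Finite F] [Finite V] (p : ℕ) [Fact p.Prime] [CharP F p]
    (hp : ∀ v : V, p • v = 0) (hirr : Irr F V) (hnt : NonTriv F V)
    (hcard : Nat.card V ≤ Nat.card (fixUp F V) ^ 2) : Quad F V := by
  -- decomposition
  have hdec : ∀ v : V, ∃ v0 ∈ fixUp F V, ∃ v1 ∈ fixLo F V, v = v0 + v1 := by
    let f : fixUp F V × fixLo F V → V := fun ab => ab.1.1 + ab.2.1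
    have hinj : Function.Injective f := by
      rintro ⟨a, b⟩ ⟨a', b'⟩ h
      have h' : a.1 + b.1 = a'.1 + b'.1 := h
      have e : a.1 - a'.1 = b'.1 - b.1 := by
        rw [sub_eq_sub_iff_add_eq_add, h', add_comm]
      have h0 : a.1 - a'.1 = 0 := eq_zero_of_fix hirr hnt ((fixUp F V).sub_mem a.2 a'.2)
        (by rw [e]; exact (fixLo F V).sub_mem b'.2 b.2)
      have h1 : b'.1 - b.1 = 0 := by rw [← e, h0]
      exact Prod.ext (Subtype.ext (sub_eq_zero.1 h0)) (Subtype.ext (sub_eq_zero.1 h1).symm)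
    have hb := hinj.bijective_of_nat_card_le (by
      rw [Nat.card_prod, card_fixLo, ← sq]; exact hcard)
    intro v
    obtain ⟨⟨a, b⟩, rfl⟩ := hb.2 v
    exact ⟨a.1, a.2, b.1, b.2, rfl⟩
  by_cases htop : fixUp F V = ⊤
  · intro x y v
    have : SL2.up y • v - v ∈ fixUp F V := by rw [htop]; exact AddSubgroup.mem_top _
    exact this x
  -- a nonzero vector of `subLo`
  have hA : IsPGroup p (Cfsg.upperUnipotentSL2 F) := by
    rintro ⟨g, hg⟩
    obtain ⟨x, rfl⟩ := SL2.mem_upper_iff.1 hg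
    refine ⟨1, Subtype.ext ?_⟩
    rw [pow_one]
    show (SL2.up x) ^ p = 1
    rw [up_pow, CharP.cast_eq_zero, zero_mul, SL2.up_zero]
  have hfin : Finite (Cfsg.upperUnipotentSL2 F) := by
    have : Finite (SL F) := by
      have := Fintype.ofFinite F
      infer_instance
    infer_instance
  obtain ⟨v, hv, hva⟩ := exists_not_mem_sub_mem hA hp (fixUp F V) (by
    rintro ⟨g, hg⟩ w hw
    obtain ⟨x, rfl⟩ := SL2.mem_upper_iff.1 hg
    show SL2.up x • w ∈ _
    rw [hw x]; exact hw) htop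
  obtain ⟨v0, h0, v1, h1, rfl⟩ := hdec v
  have hv1 : v1 ∈ subLo F V := by
    refine ⟨h1, fun x => ?_⟩
    have := hva ⟨SL2.up x, SL2.mem_upper_iff.2 ⟨x, rfl⟩⟩
    have h2 : SL2.up x • (v0 + v1) - (v0 + v1) ∈ fixUp F V := this
    rw [smul_add, h0 x] at h2
    have e : v0 + SL2.up x • v1 - (v0 + v1) = SL2.up x • v1 - v1 := by abel
    rwa [e] at h2
  have hv1ne : v1 ≠ 0 := by
    rintro rfl
    apply hv
    rw [add_zero]; exact h0
  have hW : ∀ (g : SL F), ∀ v ∈ subUp F V ⊔ subLo F V, g • v ∈ subUp F V ⊔ subLo F V := by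
    apply smul_mem_of_gens
    · intro x v hv
      obtain ⟨a, ha, b, hb, rfl⟩ := AddSubgroup.mem_sup.1 hv
      by_cases hx : x = 0
      · rw [hx, SL2.up_zero, one_smul]; exact hv
      rw [smul_add, ha.1 x]
      have : a + SL2.up x • b = (a + (SL2.up x • b - b)) + b := by abel
      rw [this, key_subLo hirr hnt hx hb]
      exact AddSubgroup.mem_sup.2 ⟨_, (subUp F V).add_mem ha (ww_subLo hx hb), _, hb, rfl⟩
    · intro y v hv
      obtain ⟨a, ha, b, hb, rfl⟩ := AddSubgroup.mem_sup.1 hv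
      by_cases hy : y = 0
      · rw [hy, SL2.lo_zero, one_smul]; exact hv
      rw [smul_add, hb.1 y]
      have ht : -y⁻¹ ≠ 0 := neg_ne_zero.2 (inv_ne_zero hy)
      have e : -(-y⁻¹)⁻¹ = y := by rw [inv_neg, inv_inv, neg_neg]
      have hk := key_subUp hirr hnt ht ha
      rw [e] at hk
      have : SL2.lo y • a + b = a + ((SL2.lo y • a - a) + b) := by abel
      rw [this, hk]
      exact AddSubgroup.mem_sup.2 ⟨_, ha, _, (subLo F V).add_mem (ww_subUp ht ha) hb, rfl⟩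
  rcases hirr _ hW with h | h
  · exfalso
    have : v1 ∈ subUp F V ⊔ subLo F V := AddSubgroup.mem_sup_right hv1
    rw [h, AddSubgroup.mem_bot] at this
    exact hv1ne this
  · intro x y v
    have hv : v ∈ subUp F V ⊔ subLo F V := by rw [h]; exact AddSubgroup.mem_top _
    obtain ⟨a, ha, b, hb, rfl⟩ := AddSubgroup.mem_sup.1 hv
    have e : SL2.up y • (a + b) - (a + b) = SL2.up y • b - b := by
      rw [smul_add, ha.1 y]; abel
    rw [e]
    exact hb.2 y x

end Cfsg.Agent.Lib.Helper85.NatSL2
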