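import Cfsg.Agent.Lib.Helper85.Nat.QA
import Cfsg.Agent.Lib.Helper85.Nat.QB
import Cfsg.Agent.Lib.Helper85.Nat.R
import Cfsg.Agent.Lib.Helper85.Nat.SYL
import Cfsg.Agent.Lib.Helper85.Nat.Transport

set_option autoImplicit false

namespace Cfsg.Agent.Lib.Helper85.NatSL2

open Matrix

variable {F : Type*} [Field F] {V : Type*} [AddCommGroup V] [DistribMulAction (SL F) V]

/-- An irreducible nontrivial `SL₂(F)`-module (any field `F`, `V` any abelian group with operators) on
which the upper unitriangular group acts quadratically is the natural module. -/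
theorem natural_of_quad (hirr : Irr F V) (hnt : NonTriv F V) (hq : Quad F V) :
    ∃ ψ : V ≃+ (Fin 2 → F), ∀ (g : SL F) (v : V),
      ψ (g • v) = (g : Matrix (Fin 2) (Fin 2) F) *ᵥ ψ v :=
  natural_of_facts hirr hnt hq (exists_decomp hirr hnt hq) (fun ht _ hv => ww_on_fixLo hirr hnt hq ht hv)
    (fun ht _ hv => ww_on_fixUp hirr hnt hq ht hv)

end Cfsg.Agent.Lib.Helper85.NatSL2
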