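import Cfsg.Agent.Lib.Helper85.Nat.Basic

set_option autoImplicit false

namespace Cfsg.Agent.Lib.Helper85.NatSL2

open Matrix

variable {F : Type*} [Field F] {V : Type*} [AddCommGroup V] [DistribMulAction (SL F) V]

theorem lo_eq_conj (y : F) : SL2.lo y = ww 1 * SL2.up (-y) * (ww (1 : F))⁻¹ := by
  have := (SL2.stdSt2 F).conj_x (one_ne_zero) (-y)
  have h2 : ww 1 * SL2.up (-y) * (ww (1 : F))⁻¹ = SL2.lo (-((1 : F)⁻¹ ^ 2 * -y)) := this
  rw [h2]; congr 1; simp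

theorem quad_lo (hq : Quad F V) :
    ∀ (x y : F) (v : V), SL2.lo x • (SL2.lo y • v - v) = SL2.lo y • v - v := by
  intro x y v
  have h := hq (-x) (-y) ((ww (1 : F))⁻¹ • v)
  have h2 := congrArg (fun u => ww (1 : F) • u) h
  simp only [smul_sub, ← mul_smul] at h2
  rw [lo_eq_conj x, lo_eq_conj y]
  simp only [smul_sub, ← mul_smul]
  have e1 : ww (1 : F) * SL2.up (-x) * (ww (1 : F))⁻¹ * (ww 1 * SL2.up (-y) * (ww (1 : F))⁻¹)
      = ww 1 * (SL2.up (-x) * (SL2.up (-y) * (ww (1 : F))⁻¹)) := by group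
  have e2 : ww (1 : F) * SL2.up (-x) * (ww (1 : F))⁻¹ = ww 1 * (SL2.up (-x) * (ww (1 : F))⁻¹) := by
    group
  have e3 : ww (1 : F) * SL2.up (-y) * (ww (1 : F))⁻¹ = ww 1 * (SL2.up (-y) * (ww (1 : F))⁻¹) := by
    group
  rw [e1, e2, e3, h2]
  simp

theorem up_sub_mem (hq : Quad F V) (y : F) (v : V) : SL2.up y • v - v ∈ fixUp F V :=
  fun x => hq x y v

theorem lo_sub_mem (hq : Quad F V) (y : F) (v : V) : SL2.lo y • v - v ∈ fixLo F V :=
  fun x => quad_lo hq x y v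

theorem exists_decomp (hirr : Irr F V) (hnt : NonTriv F V) (hq : Quad F V) :
    ∀ v : V, ∃ v0 ∈ fixUp F V, ∃ v1 ∈ fixLo F V, v = v0 + v1 := by
  have hW : ∀ (g : SL F), ∀ v ∈ fixUp F V ⊔ fixLo F V, g • v ∈ fixUp F V ⊔ fixLo F V := by
    apply smul_mem_of_gens
    · intro x v hv
      obtain ⟨v0, h0, v1, h1, rfl⟩ := AddSubgroup.mem_sup.1 hv
      rw [smul_add, h0 x]
      have : v0 + SL2.up x • v1 = (v0 + (SL2.up x • v1 - v1)) + v1 := by abel
      rw [this]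
      exact AddSubgroup.mem_sup.2 ⟨_, (fixUp F V).add_mem h0 (up_sub_mem hq x v1), _, h1, rfl⟩
    · intro x v hv
      obtain ⟨v0, h0, v1, h1, rfl⟩ := AddSubgroup.mem_sup.1 hv
      rw [smul_add, h1 x]
      have : SL2.lo x • v0 + v1 = v0 + ((SL2.lo x • v0 - v0) + v1) := by abel
      rw [this]
      exact AddSubgroup.mem_sup.2 ⟨_, h0, _, (fixLo F V).add_mem (lo_sub_mem hq x v0) h1, rfl⟩
  rcases hirr _ hW with h | h
  · exfalso
    have hU : ∀ (y : F) (v : V), SL2.up y • v = v := by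
      intro y v
      have : SL2.up y • v - v ∈ fixUp F V ⊔ fixLo F V :=
        AddSubgroup.mem_sup_left (up_sub_mem hq y v)
      rw [h, AddSubgroup.mem_bot] at this
      exact sub_eq_zero.1 this
    obtain ⟨g, v, hgv⟩ := hnt
    have hv : v ∈ fixUp F V ⊔ fixLo F V := AddSubgroup.mem_sup_left (fun y => hU y v)
    rw [h, AddSubgroup.mem_bot] at hv
    apply hgv
    rw [hv, smul_zero]
  · intro v
    have hv : v ∈ fixUp F V ⊔ fixLo F V := by rw [h]; exact AddSubgroup.mem_top _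
    obtain ⟨v0, h0, v1, h1, rfl⟩ := AddSubgroup.mem_sup.1 hv
    exact ⟨v0, h0, v1, h1, rfl⟩

theorem ww_on_fixLo (hirr : Irr F V) (hnt : NonTriv F V) (hq : Quad F V) {t : F} (ht : t ≠ 0) {v : V}
    (hv : v ∈ fixLo F V) : ww t • v = SL2.up t • v - v := by
  have h1 : ww t • v = (SL2.up t • v - v) +
      (v + (SL2.lo (-t⁻¹) • (SL2.up t • v - v) - (SL2.up t • v - v))) := by
    rw [ww_eq' ht, mul_smul, mul_smul, hv (-t⁻¹)]
    have : SL2.up t • v = v + (SL2.up t • v - v) := by abel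
    conv_lhs => rw [this, smul_add, hv (-t⁻¹)]
    abel
  have h2 : v + (SL2.lo (-t⁻¹) • (SL2.up t • v - v) - (SL2.up t • v - v)) ∈ fixLo F V :=
    (fixLo F V).add_mem hv (lo_sub_mem hq _ _)
  have h3 : v + (SL2.lo (-t⁻¹) • (SL2.up t • v - v) - (SL2.up t • v - v)) ∈ fixUp F V := by
    have : v + (SL2.lo (-t⁻¹) • (SL2.up t • v - v) - (SL2.up t • v - v))
        = ww t • v - (SL2.up t • v - v) := by rw [h1]; abel
    rw [this]
    exact (fixUp F V).sub_mem (ww_smul_fixLo ht hv) (up_sub_mem hq _ _)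
  rw [h1, eq_zero_of_fix hirr hnt h3 h2, add_zero]

theorem ww_on_fixUp (hirr : Irr F V) (hnt : NonTriv F V) (hq : Quad F V) {t : F} (ht : t ≠ 0) {v : V}
    (hv : v ∈ fixUp F V) : ww t • v = SL2.lo (-t⁻¹) • v - v := by
  have h1 : ww t • v = (SL2.lo (-t⁻¹) • v - v) +
      (v + (SL2.up t • (SL2.lo (-t⁻¹) • v - v) - (SL2.lo (-t⁻¹) • v - v))) := by
    rw [ww_def, mul_smul, mul_smul, hv t]
    have : SL2.lo (-t⁻¹) • v = v + (SL2.lo (-t⁻¹) • v - v) := by abel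
    conv_lhs => rw [this, smul_add, hv t]
    abel
  have h2 : v + (SL2.up t • (SL2.lo (-t⁻¹) • v - v) - (SL2.lo (-t⁻¹) • v - v)) ∈ fixUp F V :=
    (fixUp F V).add_mem hv (up_sub_mem hq _ _)
  have h3 : v + (SL2.up t • (SL2.lo (-t⁻¹) • v - v) - (SL2.lo (-t⁻¹) • v - v)) ∈ fixLo F V := by
    have : v + (SL2.up t • (SL2.lo (-t⁻¹) • v - v) - (SL2.lo (-t⁻¹) • v - v))
        = ww t • v - (SL2.lo (-t⁻¹) • v - v) := by rw [h1]; abel
    rw [this]
    exact (fixLo F V).sub_mem (ww_smul_fixUp ht hv) (lo_sub_mem hq _ _)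
  rw [h1, eq_zero_of_fix hirr hnt h2 h3, add_zero]

end Cfsg.Agent.Lib.Helper85.NatSL2
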